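/-
Quasi-coherence, finiteness and support of the sheaf of differentials.
-/
import Groth.Agent.Lib.AffHom12.OmegaSect
import Groth.Agent.Lib.Fitting26.Sheaf
import Groth.Agent.Lib.FlatH4.PullChart
import Groth.Agent.Lib.ModM1.Coh
import Groth.Agent.Lib.ModM1.Pull
import Groth.Agent.Lib.TensorMod.IdealMod
import Mathlib.AlgebraicGeometry.Morphisms.FormallyUnramified

universe u

open CategoryTheory Limits AlgebraicGeometry TopologicalSpace Opposite

set_option backward.isDefEq.respectTransparency.types false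

namespace Groth.Agent.Omega26

variable {X S : Scheme.{u}} (f : X ⟶ S)

theorem isQCoh [QuasiSeparated f] : Coh.IsQCoh (Omega.sheaf f) :=
  M1.isQCoh_pullback (pullback.diagonal f) (M2.isQCoh_idealMod _)

noncomputable def sectEquiv [QuasiSeparated f] {U : X.Opens} (hU : IsAffineOpen U) {V : S.Opens}
    (hV : IsAffineOpen V) (h : U ≤ f ⁻¹ᵁ V) :
    letI := (f.appLE V U h).hom.toAlgebra
    KaehlerDifferential Γ(S, V) Γ(X, U) ≃ₗ[Γ(X, U)] Γ(Omega.sheaf f, U) :=
  letI := (f.appLE V U h).hom.toAlgebra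
  LinearEquiv.ofBijective (OmAff.toSect f V U h).hom
    (by
      obtain ⟨c⟩ := AffHom12.nonempty_chart f hU hV h rfl
      have hW := AffHom12.isAffineOpen_WW f hU hV h rfl
      have hL : ∀ b, (OmAff.toSect f V U h).hom (KaehlerDifferential.D Γ(S, V) Γ(X, U) b) = OmegaSh.dSect f U b :=
        fun b => OmAff.toSect_d f V U h b
      exact ⟨AffHom12.injective_L f hU c hW _ hL, AffHom12.surjective_L f hU c hW _ hL⟩)

theorem exists_chart (x : X) (O : X.Opens) (hx : x ∈ O) :
    ∃ (V : S.Opens) (U : X.Opens), IsAffineOpen V ∧ IsAffineOpen U ∧ x ∈ U ∧ U ≤ O ∧ U ≤ f ⁻¹ᵁ V := by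
  obtain ⟨V, hV, hxV, -⟩ := exists_isAffineOpen_mem_and_subset (X := S) (x := f x) (U := ⊤) trivial
  obtain ⟨U, hU, hxU, hle⟩ := exists_isAffineOpen_mem_and_subset (X := X) (x := x) (U := O ⊓ f ⁻¹ᵁ V) ⟨hx, hxV⟩
  exact ⟨V, U, hV, hU, hxU, fun y hy => (hle hy).1, fun y hy => (hle hy).2⟩

theorem isFT [QuasiSeparated f] [LocallyOfFiniteType f] : CohB1.IsFT (Omega.sheaf f) := by
  choose V U hV hU hxU _ hle using fun x => exists_chart f x ⊤ trivial
  refine M1.isFT_of_openImmersion_cover (fun x => (hU x).fromSpec) (fun x => ⟨x, ?_⟩) fun x => ?_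
  · exact (hU x).range_fromSpec.ge (hxU x)
  · letI := (f.appLE (V x) (U x) (hle x)).hom.toAlgebra
    haveI : Algebra.FiniteType Γ(S, V x) Γ(X, U x) := f.finiteType_appLE (hV x) (hU x) (hle x)
    haveI : Module.Finite Γ(X, U x) Γ(Omega.sheaf f, U x) := Module.Finite.equiv (sectEquiv f (hU x) (hV x) (hle x))
    exact (M1.isFT_iff_finite_spec _ (M1.isQCoh_fromSpec (isQCoh f) (hU x))).mpr
      (Module.Finite.equiv (M1.affineSecEquiv (Omega.sheaf f) (hU x)).symm)

theorem subsingleton_sections_iff [QuasiSeparated f] {U : X.Opens} (hU : IsAffineOpen U) {V : S.Opens}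
    (hV : IsAffineOpen V) (h : U ≤ f ⁻¹ᵁ V) :
    Subsingleton Γ(Omega.sheaf f, U) ↔ FormallyUnramified (U.ι ≫ f) := by
  letI := (f.appLE V U h).hom.toAlgebra
  have e : U.ι ≫ f = hU.isoSpec.hom ≫ Spec.map (f.appLE V U h) ≫ hV.fromSpec := by
    rw [IsAffineOpen.SpecMap_appLE_fromSpec f hV hU h, ← Category.assoc, IsAffineOpen.fromSpec, Iso.hom_inv_id_assoc]
  rw [e, MorphismProperty.cancel_left_of_respectsIso (P := @FormallyUnramified),
    ← (sectEquiv f hU hV h).toEquiv.subsingleton_congr, ← Algebra.formallyUnramified_iff]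
  constructor
  · intro hu
    haveI : FormallyUnramified (Spec.map (f.appLE V U h)) :=
      (HasRingHomProperty.Spec_iff (P := @FormallyUnramified)).mpr hu
    exact MorphismProperty.comp_mem _ _ _ inferInstance inferInstance
  · intro hu
    exact (HasRingHomProperty.Spec_iff (P := @FormallyUnramified)).mp (FormallyUnramified.of_comp _ hV.fromSpec)

theorem notMem_support_iff [QuasiSeparated f] [LocallyOfFiniteType f] (x : X) :
    x ∉ CohB1.support (Omega.sheaf f) ↔ ∃ U : X.Opens, x ∈ U ∧ FormallyUnramified (U.ι ≫ f) := by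
  constructor
  · intro hx
    obtain ⟨V, U, hV, hU, hxU, hle, hUV⟩ := exists_chart f x
      ⟨(CohB1.support (Omega.sheaf f))ᶜ, (M1.isClosed_support (isFT f)).isOpen_compl⟩ hx
    refine ⟨U, hxU, (subsingleton_sections_iff f hU hV hUV).mp ⟨fun a b => ?_⟩⟩
    refine M1.section_ext a b fun y hy => ?_
    haveI : Subsingleton ((Omega.sheaf f).presheaf.stalk y) := not_not.mp (hle hy)
    exact Subsingleton.elim _ _
  · rintro ⟨W, hxW, hW⟩ hx
    refine hx ⟨fun a b => ?_⟩
    obtain ⟨O, hxO, s, rfl⟩ := (Omega.sheaf f).presheaf.exists_germ_eq a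
    obtain ⟨O', hxO', t, rfl⟩ := (Omega.sheaf f).presheaf.exists_germ_eq b
    obtain ⟨V, U, hV, hU, hxU, hle, hUV⟩ := exists_chart f x (W ⊓ (O ⊓ O')) ⟨hxW, hxO, hxO'⟩
    have hUW : U ≤ W := hle.trans inf_le_left
    haveI : FormallyUnramified (U.ι ≫ f) := by
      rw [← X.homOfLE_ι hUW, Category.assoc]
      exact MorphismProperty.comp_mem _ _ _ inferInstance hW
    haveI := (subsingleton_sections_iff f hU hV hUV).mpr inferInstance
    rw [← (Omega.sheaf f).presheaf.germ_res_apply (homOfLE (hle.trans (inf_le_right.trans inf_le_left))) x hxU s,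
      ← (Omega.sheaf f).presheaf.germ_res_apply (homOfLE (hle.trans (inf_le_right.trans inf_le_right))) x hxU t]
    congr 1
    exact Subsingleton.elim _ _

end Groth.Agent.Omega26

namespace Groth.Agent.Omega26

variable {X S : Scheme.{u}} (f : X ⟶ S)

open scoped TensorProduct in
theorem fitting_comap [QuasiSeparated f] [LocallyOfFiniteType f] {S' : Scheme.{u}} (g : S' ⟶ S) (i : ℕ) :
    (Fitt.sheafIdeal (Omega.sheaf f) i).comap (pullback.fst f g) = Fitt.sheafIdeal (Omega.sheaf (pullback.snd f g)) i := by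
  refine EffCartier.eq_of_forall_exists fun t => ?_
  obtain ⟨V, U, hV, hU, htU, -, hUV⟩ := exists_chart f (pullback.fst f g t) ⊤ trivial
  have htV : g (pullback.snd f g t) ∈ V := by
    rw [← Scheme.Hom.comp_apply, ← pullback.condition, Scheme.Hom.comp_apply]
    exact hUV htU
  obtain ⟨V', hV', htV', hVV⟩ := exists_isAffineOpen_mem_and_subset (x := pullback.snd f g t) (U := g ⁻¹ᵁ V) htV
  let W := pullback.fst f g ⁻¹ᵁ U ⊓ pullback.snd f g ⁻¹ᵁ V'
  have H := IsPullback.of_hasPullback f g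
  have hW : IsAffineOpen W := FlatH4.isAffineOpen_of_isPullback H hVV hUV rfl hV hV' hU
  refine ⟨⟨W, hW⟩, ⟨htU, htV'⟩, ?_⟩
  rw [EffCartier.comap_ideal _ _ ⟨U, hU⟩ ⟨W, hW⟩ inf_le_left, Fitting26.sheafIdeal_ideal (isQCoh f) (isFT f),
    Fitting26.sheafIdeal_ideal (isQCoh _) (isFT _)]
  have hpo := FlatH4.isPushout_sections H hVV hUV rfl hV hV' hU
  algebraize [(f.appLE V U hUV).hom, (g.appLE V V' hVV).hom, ((pullback.fst f g).appLE U W inf_le_left).hom,
    ((pullback.snd f g).appLE V' W inf_le_right).hom,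
    (((pullback.fst f g).appLE U W inf_le_left).hom.comp (f.appLE V U hUV).hom)]
  haveI : IsScalarTower Γ(S, V) Γ(S', V') Γ(pullback f g, W) :=
    IsScalarTower.of_algebraMap_eq' (congrArg CommRingCat.Hom.hom hpo.w)
  haveI : Algebra.IsPushout Γ(S, V) Γ(X, U) Γ(S', V') Γ(pullback f g, W) :=
    CommRingCat.isPushout_iff_isPushout.mp hpo
  haveI : Algebra.IsPushout Γ(S, V) Γ(S', V') Γ(X, U) Γ(pullback f g, W) := .symm inferInstance
  haveI : Algebra.FiniteType Γ(S, V) Γ(X, U) := f.finiteType_appLE hV hU hUV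
  haveI : Module.Finite Γ(X, U) Γ(Omega.sheaf f, U) := Module.Finite.equiv (sectEquiv f hU hV hUV)
  haveI : Algebra.FiniteType Γ(S', V') Γ(pullback f g, W) := (pullback.snd f g).finiteType_appLE hV' hW inf_le_right
  rw [← FittingLib.ideal_congr (sectEquiv f hU hV hUV) i,
    ← FittingLib.ideal_congr (sectEquiv (pullback.snd f g) hW hV' inf_le_right) i,
    ← FittingLib.ideal_congr (KaehlerDifferential.tensorKaehlerEquiv Γ(S, V) Γ(S', V') Γ(X, U) Γ(pullback f g, W)) i,
    FittingLib.ideal_baseChange]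
  rfl

end Groth.Agent.Omega26
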